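import Cfsg.Agent.H753.IF.RTwo
import Cfsg.Agent.H565.RY.RowsA
import Cfsg.Agent.H271.IFD.RowsC
import Cfsg.Agent.H21.QDLie
import Cfsg.Agent.NotCT.Orders
import Cfsg.Agent.S0482
import Cfsg.Agent.S1730
import Cfsg.Agent.S0280
import Cfsg.Agent.S1163

/-!
# S5719, `³D₄(q)`, `q` odd: the groups of 2-rank at most 3 (helper753)
-/

set_option autoImplicit false
set_option linter.unusedSectionVars false

namespace Cfsg.Agent.H753.IFx

open Subgroup Cfsg.Agent.GTwoOdd Cfsg.Lie Cfsg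

local notation "SL2" => Matrix.SpecialLinearGroup (Fin 2)

/-- the numerical test -/
def chk (n : ℕ) : Bool :=
  (List.range 20).all fun q => q % 2 == 0 || q == 1 || n % (q ^ 3 * (q ^ 6 - 1)) != 0

theorem chk_lt {n q : ℕ} (hn : n < 500000000000) (hn0 : 0 < n) (h3 : 3 ≤ q) (hodd : Odd q)
    (hd : q ^ 3 * (q ^ 6 - 1) ∣ n) : chk n = false := by
  have hq : q < 20 := by
    by_contra h20
    push Not at h20
    have h1 := Nat.le_of_dvd hn0 hd
    have h2 : 20 ^ 3 * (20 ^ 6 - 1) ≤ q ^ 3 * (q ^ 6 - 1) :=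
      Nat.mul_le_mul (Nat.pow_le_pow_left h20 3) (Nat.sub_le_sub_right (Nat.pow_le_pow_left h20 6) 1)
    norm_num at h2
    omega
  rw [Bool.eq_false_iff]
  intro h
  have h1 := List.all_eq_true.1 h q (List.mem_range.2 hq)
  have h2 := Nat.mod_eq_zero_of_dvd hd
  rw [h2] at h1
  have h4 : q % 2 = 1 := Nat.odd_iff.1 hodd
  simp [h4] at h1
  omega

theorem kill_card {L : Type} [Field L] [Fintype L] {q : ℕ} (h3 : 3 ≤ q) (hodd : Odd q) (hL : Fintype.card L = q ^ 3)
    {S : Type*} [Group S] [Finite S] (j : SL2 L →* S) (hj : Function.Injective j) {n : ℕ} (hn : n < 500000000000)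
    (hc : Nat.card S = n) (h : chk n = true) : False := by
  have h1 : Nat.card (SL2 L) ∣ Nat.card S := Subgroup.card_dvd_of_injective j hj
  rw [SLNormal.card_sl, hL, ← pow_mul, hc] at h1
  have h2 := chk_lt hn (by rw [← hc]; exact Nat.card_pos) h3 hodd h1
  rw [h] at h2
  exact absurd h2 (by decide)

theorem card_psu34 {F : Type} [Field F] [Fintype F] (hF : Fintype.card F = 16) : Nat.card (Cfsg.PSU 3 F 4) = 62400 := by
  have h := S0280.result (F := F) (q := 4) (by rw [hF]; norm_num) 3 (by norm_num)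
  have hg : Nat.gcd 3 (4 + 1) = 1 := by decide
  rw [hg, Finset.prod_range_succ, Finset.prod_range_succ, Finset.prod_range_succ, Finset.prod_range_zero] at h
  norm_num at h
  omega

theorem card_psu38 {F : Type} [Field F] [Fintype F] (hF : Fintype.card F = 64) : Nat.card (Cfsg.PSU 3 F 8) = 5515776 := by
  have h := S0280.result (F := F) (q := 8) (by rw [hF]; norm_num) 3 (by norm_num)
  have hg : Nat.gcd 3 (8 + 1) = 3 := by decide
  rw [hg, Finset.prod_range_succ, Finset.prod_range_succ, Finset.prod_range_succ, Finset.prod_range_zero] at h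
  norm_num at h
  omega

theorem card_a7 : Nat.card (alternatingGroup (Fin 7)) = 2520 := by
  rw [nat_card_alternatingGroup, Nat.card_eq_fintype_card, Fintype.card_fin]
  decide

/-- a non-commutative 2-subgroup -/
theorem exists_two {L : Type} [Field L] [Fintype L] (hodd : Odd (Fintype.card L)) :
    ∃ T : Subgroup (SL2 L), IsPGroup 2 T ∧ ∃ x ∈ T, ∃ y ∈ T, x * y ≠ y * x := by
  obtain ⟨a, b, ha, hb, hab⟩ := SLNormal.exists_pair hodd
  have h2 := Cfsg.Agent.ClassicalGeometry.SLTwoFour.two_ne_zero_of_odd (F := L) hodd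
  have hp : ∀ a : SL2 L, a * a = -1 → IsPGroup 2 (zpowers a) := by
    intro a ha
    have h4 : a ^ 2 ^ 2 = 1 := by
      show a ^ (2 + 2) = 1
      rw [pow_add, pow_two, ha, neg_mul_neg, one_mul]
    rintro ⟨_, n, rfl⟩
    refine ⟨2, Subtype.ext ?_⟩
    show (a ^ n) ^ 2 ^ 2 = 1
    rw [← zpow_natCast, ← zpow_mul, mul_comm, zpow_mul, zpow_natCast, h4, one_zpow]
  have hinv : b * a * b⁻¹ = a⁻¹ := by
    have e1 : a⁻¹ = -a := by
      apply inv_eq_of_mul_eq_one_right
      rw [mul_neg, ha, neg_neg]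
    have e2 : b⁻¹ = -b := by
      apply inv_eq_of_mul_eq_one_right
      rw [mul_neg, hb, neg_neg]
    have e3 : b * a = -(a * b) := by rw [hab, neg_neg]
    rw [e1, e2, e3, neg_mul_neg, mul_assoc, hb, mul_neg, mul_one]
  have hn : zpowers b ≤ normalizer (zpowers a : Set (SL2 L)) := by
    rw [zpowers_le, mem_normalizer_iff]
    have key : ∀ n : ℤ, b * a ^ n * b⁻¹ = a ^ (-n) := by
      intro n
      rw [← conj_zpow, hinv, inv_zpow', ]
    intro x
    constructor
    · rintro ⟨n, rfl⟩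
      exact ⟨-n, (key n).symm⟩
    · rintro ⟨n, hn⟩
      refine ⟨-n, ?_⟩
      have h5 := key (-n)
      rw [neg_neg] at h5
      have hn' : a ^ n = b * x * b⁻¹ := hn
      show a ^ (-n) = x
      rw [hn'] at h5
      have h6 : b * a ^ (-n) * b⁻¹ = b * x * b⁻¹ := h5
      exact mul_left_cancel (mul_right_cancel h6)
  refine ⟨zpowers b ⊔ zpowers a, IsPGroup.to_sup_of_normal_right' (hp b hb) (hp a ha) hn, a, mem_sup_right (mem_zpowers a), b,
    mem_sup_left (mem_zpowers b), fun h => ?_⟩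
  rw [h] at hab
  have h5 : b * a = -(b * a) := hab
  have h6 : (1 : SL2 L) = -1 := by
    calc (1 : SL2 L) = (b * a) * (b * a)⁻¹ := (mul_inv_cancel _).symm
      _ = -(b * a) * (b * a)⁻¹ := by rw [← h5]
      _ = -1 := by rw [neg_mul, mul_inv_cancel]
  exact Cfsg.Agent.ClassicalGeometry.SLTwoFour.neg_one_ne_one h2 h6.symm

/-- **ROWS** -/
theorem rows {L : Type} [Field L] [Fintype L] {q : ℕ} (hq : IsPrimePow q) (hodd : Odd q)
    (hL : Fintype.card L = q ^ 3) : Rows L q := by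
  intro S _ _ _ hna h3 z hz j hj hjz hcen hdvd
  have hq1 := hq.one_lt
  have hq3 : 3 ≤ q := by obtain ⟨k, hk⟩ := hodd; omega
  have hL3 : 3 < Fintype.card L := H565.RY.card_gt hq1 hL
  have hJ : ∀ g, g * z = z * g → ∀ x, g * j x * g⁻¹ ∈ j.range := by
    intro g hg x
    exact (mem_normalizer_iff.1 (hcen (mem_centralizer_singleton_iff.2 hg)) (j x)).1 ⟨x, rfl⟩
  by_cases h2 : Cfsg.PRankLE 2 2 S
  · exfalso
    rcases S0482.result hna h2 with ⟨F, _, _, hF, h5, ⟨e⟩⟩ | ⟨F, _, _, hF, ⟨e⟩⟩ | ⟨F, _, _, r, hF, hr, ⟨e⟩⟩ |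
      ⟨F, _, _, hF, ⟨e⟩⟩ | ⟨⟨e⟩⟩ | h
    · exact H565.RY.row_psl2 e hL3 hz j hj hjz
    · exact H565.RY.row_psl3 hF e hq1 hL hz j hj hjz hJ hdvd
    · exact H565.RY.row_psu3 hF hr e hq1 hL hz j hj hjz hJ hdvd
    · exact kill_card hq3 hodd hL j hj (by norm_num) ((Nat.card_congr e.toEquiv).trans (card_psu34 hF)) (by decide +kernel)
    · exact kill_card hq3 hodd hL j hj (by norm_num) ((Nat.card_congr e.toEquiv).trans card_a7) (by decide +kernel)
    · exact kill_card hq3 hodd hL j hj (by norm_num) h.2 (by decide +kernel)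
  · rcases S1730.result hna h3 h2 with ⟨F, _, _, hF, ⟨e⟩⟩ | ⟨F, _, _, r, hr, hF, ⟨e⟩⟩ | h | ⟨F, _, _, hF, ⟨⟨e⟩⟩ | ⟨⟨e⟩⟩ | ⟨F', _, _, hF', ⟨e⟩⟩⟩ |
      h | h | h
    · exact (H271.IFD.rowC_g2 (by omega) (by rw [Nat.card_eq_fintype_card, hL]) hodd j hj hz hjz hcen hdvd hF e).elim
    · exact H271.IFD.rowC_d4 (by omega) (by rw [Nat.card_eq_fintype_card, hL]) hodd j hj hz hjz hcen hdvd
        (Cfsg.Agent.Cit.HexD4.isPrimePow_of_card hF) hr hF e
    · exfalso
      obtain ⟨T, hT, x, hx, y, hy, hxy⟩ := exists_two (L := L) (by rw [hL]; exact hodd.pow)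
      have h5 := H21.QDLie.comm_of_ree h (T.map j) (hT.map j) (j x) ⟨x, hx, rfl⟩ (j y) ⟨y, hy, rfl⟩
      rw [← map_mul, ← map_mul] at h5
      exact hxy (hj h5)
    · exact (H565.RY.row_psl2 e hL3 hz j hj hjz).elim
    · have h := (S1163.result (F := F) (m := 1) le_rfl (by rw [hF]; norm_num)).1
      have h1 : (2 : ℕ) ^ (1 + 1) = 4 := by norm_num
      rw [h1] at h
      exact (kill_card (n := 29120) hq3 hodd hL j hj (by norm_num) ((Nat.card_congr e.toEquiv).trans (by rw [h]; norm_num))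
        (by decide +kernel)).elim
    · exact (kill_card hq3 hodd hL j hj (by norm_num) ((Nat.card_congr e.toEquiv).trans (card_psu38 hF')) (by decide +kernel)).elim
    · exact (kill_card hq3 hodd hL j hj (by norm_num) (NotCT.Orders.j1 h) (by decide +kernel)).elim
    · exact (kill_card hq3 hodd hL j hj (by norm_num) (NotCT.Orders.m12 h) (by decide +kernel)).elim
    · exact (kill_card hq3 hodd hL j hj (by norm_num) (NotCT.Orders.on h) (by decide +kernel)).elim

end Cfsg.Agent.H753.IFx
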