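import Cfsg.Agent.H753.IF.TD4Of
import Cfsg.Agent.H753.IF.RowsAll
import Cfsg.Agent.H751.IF.TD4RkOneFin
import Cfsg.Agent.H241.IFD.K1A

/-!
# S5719, cell `td4`, `q` odd, `|A|` even (helper753; K1A helper241, 2-rank one helper751)
-/

set_option autoImplicit false
set_option linter.unusedSectionVars false

namespace Cfsg.Agent.H753.IFx

open Subgroup Cfsg.Lie Cfsg.Agent.H209.Fxy
open Cfsg.Agent.Cit.HexBase (HexGrp fx)

/-- **cell `td4`, `q` odd, `|A|` even** -/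
theorem td4_odd (K : Type) [Field K] [Fintype K] (q : ℕ) (hq : IsPrimePow q) (hodd : Odd q)
    (hK : Fintype.card K = q ^ 3) (hs : IsSimpleGroup ↥(twistedD4 K q)) : KillE ↥(twistedD4 K q) := by
  obtain ⟨σ, hσ, ⟨c⟩⟩ := Cfsg.Agent.Cit.HexD4.exists_d4 (K := K) (q := q) hK
  have hF := Cfsg.Agent.H271.IFD.card_fx hK hσ
  refine td4_odd_of hq hodd hK hF c (rows hq hodd hK) ?_ ?_
  · intro A Γ h g hg x
    exact Cfsg.Agent.H241.IFD.k1a hq hodd hK hs h hσ c g hg x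
  · intro A Γ h hk h1 hev
    exact Cfsg.Agent.H751.TD4RkOne.rkOne hq hodd hK hs h c hk h1 hev

end Cfsg.Agent.H753.IFx
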